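import Mathlib

/-!
A square root of twice an integral matrix of finite order with a primitive sixth root of unity as an
eigenvalue modulo a prime: every non-zero vector is cyclic.
-/

set_option autoImplicit false

namespace CfsgLib.Chevalley.ReeFourTorus

open Polynomial Matrix

/-- The sixth cyclotomic polynomial at the matrix is singular. -/
theorem exists_kernel {r : ℕ} (M : Matrix (Fin r) (Fin r) ℤ) {n ℓ q : ℕ} [Fact ℓ.Prime]
    (hM : M ^ n = 1) (hn : 0 < n) (hℓn : ¬ ℓ ∣ n) (hq : IsPrimitiveRoot (q : ZMod ℓ) 6)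
    {a : Fin r → ZMod ℓ} (ha0 : a ≠ 0)
    (ha : a ᵥ* M.map (Int.castRingHom (ZMod ℓ)) = (q : ZMod ℓ) • a) :
    ∃ x : Fin r → ℚ, x ≠ 0 ∧
      M.map (Int.castRingHom ℚ) *ᵥ (M.map (Int.castRingHom ℚ) *ᵥ x) =
        M.map (Int.castRingHom ℚ) *ᵥ x - x := by
  classical
  set Ml := M.map (Int.castRingHom (ZMod ℓ)) with hMl
  have hpow : ∀ k, a ᵥ* Ml ^ k = ((q : ZMod ℓ) ^ k) • a := by
    intro k
    induction k with
    | zero => simp
    | succ k ih =>
      rw [pow_succ, ← Matrix.vecMul_vecMul, ih, Matrix.smul_vecMul, ha, smul_smul, ← pow_succ]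
  obtain ⟨i0, hi0⟩ := Function.ne_iff.1 ha0
  have h6n : 6 ∣ n := by
    refine hq.dvd_of_pow_eq_one _ ?_
    have h1 : Ml ^ n = 1 := by
      rw [hMl, ← RingHom.mapMatrix_apply, ← map_pow, hM, map_one]
    have h2 := hpow n
    rw [h1, Matrix.vecMul_one] at h2
    have h3 := congrFun h2 i0
    simp only [Pi.smul_apply, smul_eq_mul] at h3
    exact mul_right_cancel₀ hi0 (by rw [one_mul]; exact h3.symm)
  let Po : ℤ[X] := ∏ d ∈ n.divisors.erase 6, cyclotomic d ℤ
  have hprod : cyclotomic 6 ℤ * Po = X ^ n - 1 := by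
    rw [← prod_cyclotomic_eq_X_pow_sub_one hn ℤ, ← Finset.mul_prod_erase _ _
      (Nat.mem_divisors.2 ⟨h6n, hn.ne'⟩)]
  have hPo : aeval M Po ≠ 0 := by
    intro h0
    have h1 : aeval Ml (Po.map (Int.castRingHom (ZMod ℓ))) = 0 := by
      rw [← algebraMap_int_eq, aeval_map_algebraMap]
      have := congrArg (Int.castRingHom (ZMod ℓ)).mapMatrix h0
      rw [map_zero] at this
      rw [← this]
      exact (aeval_algHom_apply (Int.castRingHom (ZMod ℓ)).mapMatrix.toIntAlgHom M Po)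
    have h2 : ∀ f : (ZMod ℓ)[X], a ᵥ* aeval Ml f = f.eval (q : ZMod ℓ) • a := by
      intro f
      induction f using Polynomial.induction_on' with
      | add f g hf hg => rw [map_add, Matrix.vecMul_add, hf, hg, eval_add, add_smul]
      | monomial k c =>
        rw [aeval_monomial, eval_monomial, Algebra.algebraMap_eq_smul_one, smul_one_mul,
          Matrix.vecMul_smul, hpow, smul_smul]
    have h3 := h2 (Po.map (Int.castRingHom (ZMod ℓ)))
    rw [h1, Matrix.vecMul_zero, eq_comm, smul_eq_zero, Polynomial.map_prod, eval_prod,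
      Finset.prod_eq_zero_iff] at h3
    rcases h3 with ⟨d, hd, hd0⟩ | h3
    · rw [map_cyclotomic] at hd0
      obtain ⟨hde, hdN⟩ := Finset.mem_erase.1 hd
      have : NeZero (d : ZMod ℓ) := ⟨fun h => hℓn (((ZMod.natCast_eq_zero_iff d ℓ).1 h).trans
        (Nat.dvd_of_mem_divisors hdN))⟩
      exact hde ((isRoot_cyclotomic_iff.1 hd0).unique hq)
    · exact ha0 h3
  set MQ := M.map (Int.castRingHom ℚ) with hMQ
  have hmapQ : ∀ f : ℤ[X], (Int.castRingHom ℚ).mapMatrix (aeval M f) = aeval MQ f := fun f =>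
    (aeval_algHom_apply
    ((Int.castRingHom ℚ).mapMatrix : Matrix (Fin r) (Fin r) ℤ →+* Matrix (Fin r) (Fin r) ℚ).toIntAlgHom M f).symm
  have hne : aeval MQ Po ≠ 0 := by
    rw [← hmapQ]
    intro h
    exact hPo (Matrix.map_injective (f := Int.castRingHom ℚ) Int.cast_injective
      (h.trans (map_zero (Int.castRingHom ℚ).mapMatrix).symm))
  obtain ⟨j, hj⟩ : ∃ j, aeval MQ Po *ᵥ Pi.single j 1 ≠ 0 := by
    by_contra h
    push Not at h
    refine hne (Matrix.ext fun b c => ?_)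
    simpa using congrFun (h c) b
  refine ⟨_, hj, ?_⟩
  have h0 : aeval MQ (cyclotomic 6 ℤ) *ᵥ (aeval MQ Po *ᵥ Pi.single j 1) = 0 := by
    rw [Matrix.mulVec_mulVec, ← map_mul, hprod, ← hmapQ, map_sub, map_pow, aeval_X, hM, map_one,
      sub_self, map_zero, Matrix.zero_mulVec]
  rw [cyclotomic_six] at h0
  simp only [map_add, map_sub, map_mul, aeval_X, map_one, pow_two, Matrix.add_mulVec, Matrix.sub_mulVec,
    Matrix.one_mulVec, ← Matrix.mulVec_mulVec] at h0
  rw [← sub_eq_zero, ← h0]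
  abel

theorem not_three_mul_sq (d : ℚ) : 3 * (d * d) ≠ 2 := by
  intro h
  have h1 : IsSquare ((6 : ℕ) : ℚ) := ⟨3 * d, by push_cast; linear_combination (-3 : ℚ) * h⟩
  rw [Rat.isSquare_natCast_iff] at h1
  obtain ⟨k, hk⟩ := h1
  rcases Nat.lt_or_ge k 3 with h3 | h3
  · interval_cases k <;> omega
  · have := Nat.mul_le_mul h3 h3
    omega

variable {V : Type*} [AddCommGroup V] [Module ℚ V] {M N : V →ₗ[ℚ] V} (hN : ∀ x, N (N x) = (2 : ℚ) • M x)
include hN

omit hN in
theorem pair_zero {x : V} (hx : x ≠ 0) (h6 : M (M x) = M x - x) {c d : ℚ}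
    (h : c • x + d • M x = 0) : c = 0 ∧ d = 0 := by
  have hm : c • M x + d • (M x - x) = 0 := by
    rw [← h6]
    simpa [map_add, map_smul] using congrArg M h
  have h2 : (c * c + c * d + d * d) • x = 0 :=
    calc (c * c + c * d + d * d) • x
        = (c + d) • (c • x + d • M x) - d • (c • M x + d • (M x - x)) := by module
      _ = 0 := by rw [h, hm, smul_zero, smul_zero, sub_zero]
  have h3 : c * c + c * d + d * d = 0 := (smul_eq_zero.1 h2).resolve_right hx
  constructor <;>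
    nlinarith [sq_nonneg (c + d), mul_self_nonneg c, mul_self_nonneg d]

/-- The four vectors `x, N x, N² x, N³ x` are independent on the kernel. -/
theorem quad_zero {x : V} (hx : x ≠ 0) (h6 : M (M x) = M x - x) {a b c d : ℚ}
    (h : a • x + c • N x + b • N (N x) + d • N (N (N x)) = 0) :
    a = 0 ∧ b = 0 ∧ c = 0 ∧ d = 0 := by
  have hMN : ∀ y, M (N y) = N (M y) := fun y => by
    have h1 := hN (N y)
    rw [hN y, map_smul] at h1
    exact (smul_right_injective V (two_ne_zero' ℚ) h1).symm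
  rw [hN, map_smul, ← hMN] at h
  -- `(a + 2 b M) x + (c + 2 d M) N x = 0`
  have hy6 : M (M (N x)) = M (N x) - N x := by rw [hMN, hMN, h6, map_sub]
  by_cases hcd : c = 0 ∧ d = 0
  · obtain ⟨rfl, rfl⟩ := hcd
    obtain ⟨ha, hb⟩ := pair_zero hx h6 (c := a) (d := 2 * b) (by
      rw [← h]; module)
    exact ⟨ha, by linarith, rfl, rfl⟩
  exfalso
  have hD : c * c + c * (2 * d) + 2 * d * (2 * d) ≠ 0 := by
    intro h0
    refine hcd ⟨?_, ?_⟩ <;>
      nlinarith [sq_nonneg (c + 2 * d), mul_self_nonneg c, mul_self_nonneg d]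
  set D := c * c + c * (2 * d) + 2 * d * (2 * d) with hDdef
  have hm : a • M x + c • M (N x) + b • ((2 : ℚ) • (M x - x)) + d • ((2 : ℚ) • (M (N x) - N x)) = 0 := by
    rw [← h6, ← hy6]
    simpa [map_add, map_smul] using congrArg M h
  obtain ⟨e, f, hy⟩ : ∃ e f : ℚ, N x = e • x + f • M x := by
    refine ⟨-((c + 2 * d) * a + 4 * b * d) / D, -((c + 2 * d) * (2 * b) - 2 * d * a - 4 * b * d) / D,
      smul_right_injective V hD ?_⟩
    simp only [smul_add, smul_smul, mul_div_cancel₀ _ hD]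
    rw [← sub_eq_zero]
    calc D • N x - ((-((c + 2 * d) * a + 4 * b * d)) • x +
          (-((c + 2 * d) * (2 * b) - 2 * d * a - 4 * b * d)) • M x)
        = (c + 2 * d) • (a • x + c • N x + b • ((2 : ℚ) • M x) + d • ((2 : ℚ) • M (N x))) -
          (2 * d) • (a • M x + c • M (N x) + b • ((2 : ℚ) • (M x - x)) +
            d • ((2 : ℚ) • (M (N x) - N x))) := by rw [hDdef]; module
      _ = 0 := by rw [h, hm, smul_zero, smul_zero, sub_zero]
  have h2 : (2 : ℚ) • M x = e • N x + f • M (N x) := by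
    rw [← hN, hMN]
    conv_lhs => rw [hy]
    rw [map_add, map_smul, map_smul]
  rw [hy, map_add, map_smul, map_smul, h6] at h2
  obtain ⟨h3, h4⟩ := pair_zero hx h6 (c := e * e - f * f) (d := 2 * e * f + f * f - 2) (by
    rw [← sub_self ((2 : ℚ) • M x)]
    nth_rewrite 1 [h2]
    module)
  rcases mul_self_eq_mul_self_iff.1 (sub_eq_zero.1 h3) with rfl | rfl
  · exact not_three_mul_sq e (by linarith)
  · nlinarith [mul_self_nonneg f]

omit hN in
/-- A functional vanishing on an orbit of `N` vanishes. -/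
theorem eq_zero_of_orbit {M N : Matrix (Fin 4) (Fin 4) ℤ} (hN : N * N = 2 • M) {n ℓ q : ℕ}
    [Fact ℓ.Prime] (hM : M ^ n = 1) (hn : 0 < n) (hℓn : ¬ ℓ ∣ n) (hq : IsPrimitiveRoot (q : ZMod ℓ) 6)
    {a : Fin 4 → ZMod ℓ} (ha0 : a ≠ 0)
    (ha : a ᵥ* M.map (Int.castRingHom (ZMod ℓ)) = (q : ZMod ℓ) • a)
    (μ x : Fin 4 → ℤ) (hx : x ≠ 0) (h : ∀ i : ℕ, μ ⬝ᵥ (N ^ i *ᵥ x) = 0) : μ = 0 := by
  let MQ : (Fin 4 → ℚ) →ₗ[ℚ] (Fin 4 → ℚ) := Matrix.toLin' (M.map (Int.castRingHom ℚ))
  let NQ : (Fin 4 → ℚ) →ₗ[ℚ] (Fin 4 → ℚ) := Matrix.toLin' (N.map (Int.castRingHom ℚ))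
  have hNQ : ∀ y, NQ (NQ y) = (2 : ℚ) • MQ y := by
    intro y
    simp only [MQ, NQ, Matrix.toLin'_apply, Matrix.mulVec_mulVec]
    rw [← Matrix.map_mul, hN, ← Matrix.smul_mulVec]
    congr 1
    ext i j
    simp [two_mul]
  have hspan : ∀ y : Fin 4 → ℚ, y ≠ 0 → MQ (MQ y) = MQ y - y →
      Submodule.span ℚ (Set.range ![y, NQ y, NQ (NQ y), NQ (NQ (NQ y))]) = ⊤ := by
    intro y hy h6
    refine LinearIndependent.span_eq_top_of_card_eq_finrank' ?_ (by simp)
    rw [Fintype.linearIndependent_iff]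
    intro g hg
    simp [Fin.sum_univ_four] at hg
    obtain ⟨h0, h2, h1, h3⟩ := quad_zero hNQ hy h6 hg
    intro i
    fin_cases i <;> assumption
  obtain ⟨x0, hx0, hx6⟩ := exists_kernel M hM hn hℓn hq ha0 ha
  let A := MQ.comp MQ - MQ + LinearMap.id
  have hA : A = 0 := by
    rw [← LinearMap.ker_eq_top, eq_top_iff, ← hspan x0 hx0 hx6, Submodule.span_le]
    have hcomm : ∀ y, A y = 0 → A (NQ y) = 0 := by
      intro y hy
      have hMN : ∀ z, MQ (NQ z) = NQ (MQ z) := fun z => by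
        have h1 := hNQ (NQ z)
        rw [hNQ z, map_smul] at h1
        exact (smul_right_injective _ (two_ne_zero' ℚ) h1).symm
      simp only [A, LinearMap.add_apply, LinearMap.sub_apply, LinearMap.comp_apply,
        LinearMap.id_apply] at hy ⊢
      rw [hMN, hMN, ← map_sub, ← map_add, hy, map_zero]
    have h0 : A x0 = 0 := by
      simp only [A, LinearMap.add_apply, LinearMap.sub_apply, LinearMap.comp_apply, LinearMap.id_apply]
      show MQ (MQ x0) - MQ x0 + x0 = 0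
      rw [show MQ (MQ x0) = MQ x0 - x0 from hx6]
      abel
    rintro _ ⟨i, rfl⟩
    fin_cases i
    exacts [h0, hcomm _ h0, hcomm _ (hcomm _ h0), hcomm _ (hcomm _ (hcomm _ h0))]
  let xQ : Fin 4 → ℚ := fun i => (x i : ℚ)
  have hxQ : xQ ≠ 0 := fun h0 => hx (funext fun i => by simpa [xQ] using congrFun h0 i)
  have h6 : MQ (MQ xQ) = MQ xQ - xQ := by
    have h1 := LinearMap.congr_fun hA xQ
    simp only [A, LinearMap.add_apply, LinearMap.sub_apply, LinearMap.comp_apply, LinearMap.id_apply,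
      LinearMap.zero_apply] at h1
    rw [← sub_eq_zero, ← h1]
    abel
  let L : (Fin 4 → ℚ) →ₗ[ℚ] ℚ :=
    { toFun := fun y => (fun i => (μ i : ℚ)) ⬝ᵥ y
      map_add' := fun y z => dotProduct_add _ _ _
      map_smul' := fun c y => by simp [dotProduct_smul] }
  have hcast : ∀ z : Fin 4 → ℤ, NQ (fun i => (z i : ℚ)) = fun i => ((N *ᵥ z) i : ℚ) := fun z => by
    funext i
    simp [NQ, Matrix.mulVec, dotProduct]
  have hLz : ∀ i : ℕ, L (fun k => (((N ^ i *ᵥ x) k : ℤ) : ℚ)) = 0 := fun i => by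
    have h2 := congrArg (fun z : ℤ => (z : ℚ)) (h i)
    simpa [L, dotProduct] using h2
  have hstep : ∀ i : ℕ, NQ (fun k => (((N ^ i *ᵥ x) k : ℤ) : ℚ)) =
      fun k => (((N ^ (i + 1) *ᵥ x) k : ℤ) : ℚ) := fun i => by
    rw [hcast, Matrix.mulVec_mulVec, ← pow_succ']
  have hker : L = 0 := by
    rw [← LinearMap.ker_eq_top, eq_top_iff, ← hspan xQ hxQ h6, Submodule.span_le]
    have e0 : xQ = fun k => (((N ^ 0 *ᵥ x) k : ℤ) : ℚ) := by simp [xQ]
    rintro _ ⟨i, rfl⟩
    fin_cases i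
    · show L xQ = 0
      rw [e0, hLz]
    · show L (NQ xQ) = 0
      rw [e0, hstep, hLz]
    · show L (NQ (NQ xQ)) = 0
      rw [e0, hstep, hstep, hLz]
    · show L (NQ (NQ (NQ xQ))) = 0
      rw [e0, hstep, hstep, hstep, hLz]
  funext k
  have := LinearMap.congr_fun hker (Pi.single k 1)
  simpa [L] using this

end CfsgLib.Chevalley.ReeFourTorus
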