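import Cfsg.Agent.Lib.Chevalley.ReeFourTorus.Linear
import Cfsg.Agent.Lib.Chevalley.CoxeterTorus.Instances
import Cfsg.Agent.Lib.Chevalley.Twist.InstF4
import Cfsg.Agent.Lib.KnownB.FieldAut.Fixed

/-!
An element of ²F₄(q) of prime order dividing `q² - q + 1` or `q⁴ - q² + 1` is regular: in F₄(q¹²) its
centraliser is a maximal torus, so it commutes with no involution.
-/

set_option autoImplicit false
set_option maxRecDepth 20000

namespace CfsgLib.Chevalley.ReeFourTorus

open Tbl
open scoped Matrix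
open CfsgLib.Chevalley.CoxeterTorus
open CfsgLib.KnownB.FieldAut (mapGL mapGL_inj map_xU map_group)

local notation "T4" => Data.F4.tbl
local notation "G4" => Data.F4.graph

/-- The exponents and the involution of the graph map. -/
theorem graph_facts : ∀ s : Fin (T4).n, (G4).ρ ((G4).ρ s.val) = s.val ∧
    (G4).ε s.val = 1 ∧ (G4).lam s.val * (G4).lam ((G4).ρ s.val) = 2 := by
  decide +kernel

theorem lam_refl : ∀ i : Fin (T4).rank, ∀ s : Fin (T4).n,
    (G4).lam ((T4).refl i.val s.val) = (G4).lam s.val := by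
  decide +kernel

theorem lam_perm {w : Equiv.Perm (Fin (T4).n)} (hw : w ∈ (T4).WP Data.F4.valid) :
    ∀ s : Fin (T4).n, (G4).lam (w s).val = (G4).lam s.val := by
  induction hw using Subgroup.closure_induction with
  | mem x hx => obtain ⟨i, rfl⟩ := hx; exact fun s => lam_refl i s
  | one => exact fun s => rfl
  | mul x y _ _ hx hy => exact fun s => (hx (y s)).trans (hy s)
  | inv x _ hx =>
    intro s
    have := hx (x⁻¹ s)
    rw [← Equiv.Perm.mul_apply, mul_inv_cancel, Equiv.Perm.one_apply] at this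
    exact this.symm

/-- The matrix of the special isogeny. -/
def isog : Matrix (Fin (T4).rank) (Fin (T4).rank) ℤ :=
  Matrix.of fun j k =>
    ((G4).lam ((G4).ρ ((T4).simple k.val)) : ℤ) * (T4).co ((G4).ρ ((T4).simple k.val)) j.val

theorem isog_co : ∀ s : Fin (T4).n, ∀ j : Fin (T4).rank,
    ∑ k : Fin (T4).rank, isog j k * (T4).co s.val k.val =
      ((G4).lam ((G4).ρ s.val) : ℤ) * (T4).co ((G4).ρ s.val) j.val := by
  decide +kernel

/-- A root in the kernel whose orbit spans contradicts non-triviality. -/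
theorem regular_of_orbit {T : Tbl} (hT : T.Valid) {A : Type*} [CommGroup A] {ζ : A} {ℓ : ℕ}
    (hζ : orderOf ζ = ℓ) (hcop : ℓ.Coprime (Nat.card (T.WP hT))) (a : Fin T.rank → ℤ)
    {v : Equiv.Perm (Fin T.n)} (hker : ∀ s : Fin T.n, ζ ^ val T a s.val = 1 → ζ ^ val T a (v s).val = 1)
    (hnz : ∃ s : Fin T.n, ζ ^ val T a s.val ≠ 1) {N : Matrix (Fin T.rank) (Fin T.rank) ℤ}
    (hN : ∀ (i : ℕ) (s : Fin T.n), ∃ c : ℤ,
      N ^ i *ᵥ (fun j => T.co s.val j.val) = c • fun j : Fin T.rank => T.co ((v ^ i) s).val j.val)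
    (hirr : ∀ μ x : Fin T.rank → ℤ, x ≠ 0 → (∀ i : ℕ, μ ⬝ᵥ (N ^ i *ᵥ x) = 0) → μ = 0)
    (s : Fin T.n) : ζ ^ val T a s.val ≠ 1 := by
  intro hs
  obtain ⟨μ, h1, h2⟩ := exists_average hT hζ hcop a (stab T hT ζ a) (fun u hu => hu.1) fun u hu => hu.2
  have horb : ∀ i : ℕ, ζ ^ val T a ((v ^ i) s).val = 1 := by
    intro i
    induction i with
    | zero => exact hs
    | succ i ih => rw [pow_succ', Equiv.Perm.mul_apply]; exact hker _ ih
  have hzero : ∀ β : Fin T.n, ζ ^ val T a β.val = 1 → val T μ β.val = 0 := by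
    intro β hβ
    obtain ⟨u, hu, k, rfl⟩ := exists_simple_image hT β
    have hr : T.refP hT k ∈ T.WP hT := by
      have := pw_mem hT [k]
      simpa [pw_cons, pw_nil] using this
    have hρ : u * T.refP hT k * u⁻¹ ∈ stab T hT ζ a := by
      refine ⟨mul_mem (mul_mem hu hr) (inv_mem hu), fun t => ?_⟩
      rw [Equiv.Perm.mul_apply, Equiv.Perm.mul_apply, val_perm hT hu, val_refP hT,
        _root_.zpow_sub, mul_comm (T.ca _ _), _root_.zpow_mul]
      have hk : ζ ^ (a ᵥ* mat T hT u) k = 1 := by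
        rw [← val_simple hT (a ᵥ* mat T hT u) k, show T.simple k.val = (T.simpF hT k).val from rfl,
          ← val_perm hT hu]
        exact hβ
      rw [hk, _root_.one_zpow, inv_one, mul_one, ← val_perm hT hu, ← Equiv.Perm.mul_apply, mul_inv_cancel,
        Equiv.Perm.one_apply]
    have h3 := h1 _ hρ (u (T.simpF hT k))
    rw [Equiv.Perm.mul_apply, Equiv.Perm.mul_apply, ← Equiv.Perm.mul_apply u⁻¹, inv_mul_cancel,
      Equiv.Perm.one_apply, refP_simpF, WP_negF hT hu, val_negF hT] at h3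
    omega
  obtain ⟨t, ht⟩ := hnz
  refine ht (h2 t ?_)
  have hμ : μ = 0 := by
    refine hirr μ (fun j => T.co s.val j.val) (co_ne_zero hT s) fun i => ?_
    obtain ⟨c, hc⟩ := hN i s
    rw [hc, dotProduct_smul, show μ ⬝ᵥ (fun j : Fin T.rank => T.co ((v ^ i) s).val j.val) = 0 from
      hzero _ (horb i), smul_zero]
  rw [hμ, val, zero_dotProduct]

variable {L : Type*} [Field L] [Finite L] [CharP L 2]

/-- The field map `t ↦ t ^ 2 ^ m`. -/
noncomputable def powTwo (L : Type*) [Field L] [Finite L] [CharP L 2] (m : ℕ) : L ≃+* L :=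
  haveI : Fact (Nat.Prime 2) := ⟨Nat.prime_two⟩
  RingEquiv.ofBijective (iterateFrobenius L 2 m)
    (Finite.injective_iff_bijective.mp (iterateFrobenius L 2 m).injective)

theorem powTwo_apply (m : ℕ) (t : L) : powTwo L m t = t ^ 2 ^ m := by
  show iterateFrobenius L 2 m t = _
  rw [iterateFrobenius_def]

/-- The data of the Ree endomorphism over a field of characteristic two. -/
noncomputable def data (L : Type*) [Field L] [Finite L] [CharP L 2] (m : ℕ) : TwistData T4 L where
  ok := Twist.F4.stOk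
  p := 2
  hp := Or.inr ⟨Nat.prime_two, inferInstance⟩
  M := G4
  N := G4
  hM := Data.F4.chk_graph
  hN := Data.F4.chk_graph
  hinv := Data.F4.chk_graph_inv
  hperf x := ⟨(powTwo L 1).symm x, Or.inl (by
    have h := (powTwo L 1).apply_symm_apply x
    rwa [powTwo_apply, pow_one] at h)⟩
  π := [3, 2, 1, 0]
  hπ := Twist.F4.chk_twist
  f := powTwo L m

/-- The Ree endomorphism over an extension restricts to the one over the field. -/
theorem sg_map {K : Type*} [Field K] [Finite K] {m : ℕ} (hK : Nat.card K = 2 ^ (2 * m + 1))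
    (ι : K →+* L) {g : GL (T4).I K} (hg : g ∈ (T4).datum.group K) :
    (data L m).twist.sg (mapGL T4 ι g) = mapGL T4 ι ((Twist.F4.S hK).sg g) := by
  have hT : (T4).Valid := Data.F4.valid
  have hm : ∀ g ∈ (T4).datum.group K, mapGL T4 ι g ∈ (T4).datum.group L := fun g hg =>
    map_group ι hT ⟨g, hg, rfl⟩
  rw [group_eq hT] at hg
  induction hg using Subgroup.closure_induction with
  | mem y hy =>
    obtain ⟨r, hr, t, rfl⟩ := hy
    rw [map_xU ι hT hr, (data L m).sg_x hr, (Twist.F4.data hK).sg_x hr]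
    refine Eq.trans ?_ (map_xU ι hT (chkMap_facts Data.F4.chk_graph hr).1 _).symm
    show (T4).xU L ((G4).ρ r) ((G4).par r (powTwo L m (ι t))) =
      (T4).xU L ((G4).ρ r) (ι ((G4).par r (Twist.F4.theta hK t)))
    simp only [RootMap.par, powTwo_apply, Twist.F4.theta_apply, map_mul, map_intCast, map_pow]
  | one => rw [map_one, Twist.sg_one, Twist.sg_one, map_one]
  | mul p q hp hq ihp ihq =>
    have hp' : p ∈ (T4).datum.group K := (group_eq hT).ge hp
    have hq' : q ∈ (T4).datum.group K := (group_eq hT).ge hq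
    rw [map_mul, Twist.sg_mul _ (hm _ hp') (hm _ hq'), ihp, ihq, ← map_mul, Twist.sg_mul _ hp' hq']
  | inv p hp ihp =>
    have hp' : p ∈ (T4).datum.group K := (group_eq hT).ge hp
    rw [map_inv, Twist.sg_inv _ (hm _ hp'), ihp, ← map_inv, Twist.sg_inv _ hp']

/-- The Ree endomorphism on a torus element. -/
theorem sg_torus (m : ℕ) {f g : Fin (T4).rank → Lˣ}
    (h : (data L m).twist.sg (torusHom T4 L f) = torusHom T4 L g) (s : Fin (T4).n) :
    tCh T4 g ((data L m).twist.ρ s).val = tCh T4 f s.val ^ (2 ^ m * (G4).lam s.val) := by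
  have hT : (T4).Valid := Data.F4.valid
  set D := data L m
  have hfG : torusHom T4 L f ∈ (T4).datum.group L :=
    diag_le_group hT (by rw [← torusHom_range hT]; exact ⟨f, rfl⟩)
  have h1 := congrArg D.twist.sg (torus_xU hT f s (1 : L))
  rw [Twist.sg_mul _ hfG (xU_mem_group hT s.2 _), Twist.sg_mul _ (xU_mem_group hT s.2 _) hfG, h,
    D.twist.sg_xU, D.twist.sg_xU, torus_xU hT g (D.twist.ρ s)] at h1
  have h2 := xU_inj hT (D.twist.ρ s).2 (mul_right_cancel h1)
  have hp : ∀ t : L, D.twist.par s t = (t ^ 2 ^ m) ^ (G4).lam s.val := by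
    intro t
    show ((G4).ε s.val : L) * (powTwo L m t) ^ (G4).lam s.val = _
    rw [powTwo_apply, (graph_facts s).2.1, Int.cast_one, one_mul]
  rw [hp, hp, one_pow, one_pow, mul_one, mul_one, ← pow_mul] at h2
  exact Units.ext (by rw [Units.val_pow_eq_pow_val]; exact h2)

set_option maxHeartbeats 1000000 in
/-- An element of order `r` of ²F₄(q) commutes with no involution. -/
theorem eq_one_of_commute {K : Type*} [Field K] [Fintype K] {m : ℕ}
    (hK : Nat.card K = 2 ^ (2 * m + 1)) {r : ℕ} (hr : r.Prime) (h7 : 5 ≤ r)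
    (hq : IsPrimitiveRoot ((2 ^ (2 * m + 1) : ℕ) : ZMod r) 6 ∨
      IsPrimitiveRoot ((2 ^ (2 * m + 1) : ℕ) : ZMod r) 12)
    {s a : GL (T4).I K} (hs : s ∈ (Twist.F4.S hK).fix) (ha : a ∈ (Twist.F4.S hK).fix)
    (hso : orderOf s = r) (ha2 : a ^ 2 = 1) (hcomm : a * s = s * a) : a = 1 := by
  classical
  have : Fact r.Prime := ⟨hr⟩
  have hT : (T4).Valid := Data.F4.valid
  have hC : (T4).chkComm = true := Data.F4.chkComm
  have hW : r.Coprime (Nat.card ((T4).WP hT)) := by
    rw [F4_card_WP, show 1152 = 2 ^ 7 * 3 ^ 2 from rfl]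
    exact Nat.Coprime.mul_right
      (((Nat.coprime_primes hr Nat.prime_two).2 (by omega)).pow_right _)
      (((Nat.coprime_primes hr Nat.prime_three).2 (by omega)).pow_right _)
  set q := 2 ^ (2 * m + 1) with hqdef
  -- the extension field
  have := Twist.F4.charTwo hK
  have : Fact (Nat.Prime 2) := ⟨Nat.prime_two⟩
  let L := FiniteField.Extension K 2 12
  letI : Fintype L := Fintype.ofFinite L
  let ι : K →+* L := algebraMap K L
  have : CharP L 2 := charP_of_injective_algebraMap ι.injective 2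
  have hLr : r ∣ Fintype.card L - 1 := by
    rw [← Nat.card_eq_fintype_card, FiniteField.natCard_extension, hK,
      ← ZMod.natCast_eq_zero_iff, Nat.cast_sub (Nat.one_le_pow _ _ (Nat.two_pow_pos _)),
      Nat.cast_pow, Nat.cast_one, sub_eq_zero]
    rcases hq with hq | hq
    · rw [show (12 : ℕ) = 6 * 2 from rfl, pow_mul, hq.pow_eq_one, one_pow]
    · exact hq.pow_eq_one
  have hinj : Function.Injective (torusHom T4 L) :=
    torusHom_injective_of_smith hT Data.F4.chkSmith (by decide)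
  obtain ⟨ζ, hζ⟩ := exists_prime_orderOf_dvd_card' (G := Lˣ) r (by
    rw [Nat.card_units, Nat.card_eq_fintype_card]; exact hLr)
  -- the diagonal conjugate
  have hsG : mapGL T4 ι s ∈ (T4).datum.group L := map_group ι hT ⟨s, hs.1, rfl⟩
  have hao : orderOf (⟨_, hsG⟩ : ↥((T4).datum.group L)) = r ^ 1 := by
    rw [pow_one, ← Subgroup.orderOf_coe, orderOf_injective _ (mapGL_inj ι), hso]
  obtain ⟨x0, hx0⟩ := Twist.ToriGen.conj_into
    (((T4).datum.diagonalSubgroup L).subgroupOf ((T4).datum.group L))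
    (by rw [Nat.card_congr (Subgroup.subgroupOfEquivOfLe (diag_le_group hT)).toEquiv,
      card_flag_dvd hT hC hLr hW]) hao
  set x : GL (T4).I L := (x0 : GL (T4).I L)
  have hxG : x ∈ (T4).datum.group L := x0.2
  rw [Subgroup.mem_subgroupOf] at hx0
  obtain ⟨f0, hf0⟩ : ∃ f, torusHom T4 L f = x * mapGL T4 ι s * x⁻¹ := by
    rw [← MonoidHom.mem_range, torusHom_range hT]
    exact hx0
  have hf0r : f0 ^ r = 1 := by
    refine hinj ?_
    rw [map_pow, hf0, _root_.conj_pow, ← map_pow, ← hso, pow_orderOf_eq_one]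
    simp
  have hlog : ∀ j : Fin (T4).rank, ∃ k : ℤ, ζ ^ k = tCh T4 f0 ((T4).simple j.val) := by
    intro j
    have h1 : IsPrimitiveRoot ζ r := hζ ▸ IsPrimitiveRoot.orderOf ζ
    refine Subgroup.mem_zpowers_iff.1 ?_
    rw [h1.zpowers_eq, mem_rootsOfUnity, ← tCh_pow, hf0r]
    simp [tCh]
  choose c hc using hlog
  have hval : ∀ u : Fin (T4).n, tCh T4 f0 u.val = ζ ^ val T4 c u.val := by
    intro u
    rw [tCh_linear hT, val, dotProduct, zpow_sum_eq]
    exact Finset.prod_congr rfl fun j _ => by rw [_root_.zpow_mul, hc]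
  have hnz : ∃ u : Fin (T4).n, ζ ^ val T4 c u.val ≠ 1 := by
    by_contra hall
    push Not at hall
    have h1 : torusHom T4 L f0 = 1 := by
      rw [show (1 : GL (T4).I L) = torusHom T4 L 1 from (map_one _).symm]
      exact torus_congr hT fun u => by rw [hval, hall]; simp [tCh]
    rw [hf0, conj_eq_one_iff] at h1
    have h2 : s = 1 := mapGL_inj ι (by rw [h1, map_one])
    rw [h2, orderOf_one] at hso
    omega
  -- the action of the Ree endomorphism
  set D := data L m with hD
  have hfix : ∀ g ∈ (Twist.F4.S hK).fix, D.twist.sg (mapGL T4 ι g) = mapGL T4 ι g := fun g hg => by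
    rw [hD, sg_map hK ι hg.1, hg.2]
  obtain ⟨g1, hg1⟩ : ∃ g, torusHom T4 L g = D.twist.sg (torusHom T4 L f0) := by
    rw [← MonoidHom.mem_range, torusHom_range hT]
    exact D.twist.sg_diag (by rw [← torusHom_range hT]; exact ⟨f0, rfl⟩)
  set y := D.twist.sg x * x⁻¹ with hy
  have hyG : y ∈ (T4).datum.group L := mul_mem (D.twist.sg_mem hxG) (inv_mem hxG)
  have hrel0 : torusHom T4 L g1 * y = y * torusHom T4 L f0 := by
    rw [hg1, hf0, Twist.sg_mul _ (mul_mem hxG hsG) (inv_mem hxG), Twist.sg_mul _ hxG hsG,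
      Twist.sg_inv _ hxG, hfix s hs, hy]
    group
  obtain ⟨-, -, -, -, w, hw, -, -, -, -, -, -, hwrel⟩ := decompose hT hC hyG hrel0
  set ρ := D.twist.ρ with hρ
  set v := w⁻¹ * ρ with hv
  have hρv : ∀ u, (ρ u).val = (G4).ρ u.val := fun u => rfl
  have hvrel : ∀ u : Fin (T4).n,
      ζ ^ val T4 c (v u).val = (ζ ^ val T4 c u.val) ^ (2 ^ m * (G4).lam u.val) := by
    intro u
    rw [← hval, ← hval, ← sg_torus m hg1.symm u, ← hwrel (v u), hv, Equiv.Perm.mul_apply,
      ← Equiv.Perm.mul_apply w, mul_inv_cancel, Equiv.Perm.one_apply]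
  have hρρ : ∀ u, ρ (ρ u) = u := fun u => Fin.ext (by rw [hρv, hρv]; exact (graph_facts u).1)
  have hρinv : ρ⁻¹ = ρ := inv_eq_of_mul_eq_one_right (Equiv.ext hρρ)
  have hconj : ∀ z ∈ (T4).WP hT, ρ * z * ρ⁻¹ ∈ (T4).WP hT := by
    intro z hz
    induction hz using Subgroup.closure_induction with
    | mem z hz =>
      obtain ⟨i, rfl⟩ := hz
      exact Subgroup.subset_closure ⟨D.twist.π i, (D.twist.refl i).symm⟩
    | one => simp [one_mem]
    | mul z z' _ _ h h' =>
      have := mul_mem h h'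
      rwa [show ρ * z * ρ⁻¹ * (ρ * z' * ρ⁻¹) = ρ * (z * z') * ρ⁻¹ by group] at this
    | inv z _ h =>
      have := inv_mem h
      rwa [show (ρ * z * ρ⁻¹)⁻¹ = ρ * z⁻¹ * ρ⁻¹ by group] at this
  have hv2 : v ^ 2 ∈ (T4).WP hT := by
    have := mul_mem (inv_mem hw) (hconj _ (inv_mem hw))
    rwa [hρinv, show w⁻¹ * (ρ * w⁻¹ * ρ) = v ^ 2 by rw [hv, pow_two]; group] at this
  have hlamv : ∀ u, (G4).lam (v u).val = (G4).lam ((G4).ρ u.val) := fun u => by
    rw [hv, Equiv.Perm.mul_apply, lam_perm (inv_mem hw), hρv]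
  -- the matrices
  set N := mat T4 hT w⁻¹ * isog with hN
  set M := mat T4 hT (v ^ 2) with hM
  have hNco : ∀ u : Fin (T4).n, N *ᵥ (fun j => (T4).co u.val j.val) =
      ((G4).lam ((G4).ρ u.val) : ℤ) • fun j : Fin (T4).rank => (T4).co (v u).val j.val := by
    intro u
    rw [hN, ← Matrix.mulVec_mulVec, show isog *ᵥ (fun j => (T4).co u.val j.val) =
      ((G4).lam ((G4).ρ u.val) : ℤ) • fun j : Fin (T4).rank => (T4).co (ρ u).val j.val from
        funext fun j => isog_co u j, Matrix.mulVec_smul, mat_mulVec hT (inv_mem hw)]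
    rfl
  have hNi : ∀ (i : ℕ) (u : Fin (T4).n), ∃ d : ℤ, N ^ i *ᵥ (fun j => (T4).co u.val j.val) =
      d • fun j : Fin (T4).rank => (T4).co ((v ^ i) u).val j.val := by
    intro i
    induction i with
    | zero => exact fun u => ⟨1, by simp⟩
    | succ i ih =>
      intro u
      obtain ⟨d, hd⟩ := ih u
      refine ⟨d * (G4).lam ((G4).ρ ((v ^ i) u).val), ?_⟩
      rw [pow_succ', ← Matrix.mulVec_mulVec, hd, Matrix.mulVec_smul, hNco, smul_smul, pow_succ' v]
      rfl
  have hN2co : ∀ u : Fin (T4).n, (N * N) *ᵥ (fun j => (T4).co u.val j.val) =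
      (2 : ℤ) • fun j : Fin (T4).rank => (T4).co ((v ^ 2) u).val j.val := by
    intro u
    rw [← Matrix.mulVec_mulVec, hNco, Matrix.mulVec_smul, hNco, smul_smul, pow_two v, Equiv.Perm.mul_apply]
    congr 1
    have h := (graph_facts (ρ u)).1
    have hl : (G4).lam ((G4).ρ (v u).val) * (G4).lam ((G4).ρ u.val) = 2 := by
      have h1 := (graph_facts (v u)).2.2
      rw [hlamv] at h1
      have h2 := (graph_facts u).2.2
      have h3 : 0 < (G4).lam ((G4).ρ u.val) := Nat.pos_of_ne_zero fun e => by simp [e] at h2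
      have h4 := Nat.eq_of_mul_eq_mul_left h3 (h1.trans (h2.symm.trans (mul_comm _ _)))
      rw [h4]
      exact h2
    rw [mul_comm]
    exact_mod_cast hl
  have hN2 : N * N = 2 • M := by
    ext j k
    have h1 := congrFun (hN2co ((T4).simpF hT k)) j
    rw [show (fun i : Fin (T4).rank => (T4).co ((T4).simpF hT k).val i.val) = Pi.single k 1 from
      funext fun i => by
        show (T4).co ((T4).simple k.val) i.val = _
        rw [co_simple hT k.2 i.2, Pi.single_apply]
        simp [Fin.val_inj]] at h1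
    rw [Matrix.mulVec_single_one] at h1
    rw [Matrix.smul_apply, nsmul_eq_mul]
    exact h1
  have hMn : M ^ orderOf (v ^ 2) = 1 := by rw [hM, ← mat_pow hT hv2, pow_orderOf_eq_one, mat_one]
  have hrn : ¬ r ∣ orderOf (v ^ 2) := fun h => hr.ne_one (Nat.eq_one_of_dvd_coprimes hW dvd_rfl
    (h.trans (Subgroup.orderOf_dvd_natCard _ hv2)))
  have hqrel : ∀ u : Fin (T4).n, ζ ^ val T4 c ((v ^ 2) u).val = (ζ ^ val T4 c u.val) ^ q := by
    intro u
    rw [pow_two v, Equiv.Perm.mul_apply, hvrel, hvrel, ← pow_mul, hlamv,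
      show 2 ^ m * (G4).lam u.val * (2 ^ m * (G4).lam ((G4).ρ u.val)) =
        2 ^ m * 2 ^ m * ((G4).lam u.val * (G4).lam ((G4).ρ u.val)) by ring, (graph_facts u).2.2, hqdef,
      show 2 ^ m * 2 ^ m * 2 = 2 ^ (2 * m + 1) by ring]
  have heig : (fun j => (c j : ZMod r)) ᵥ* M.map (Int.castRingHom (ZMod r)) =
      (q : ZMod r) • fun j => (c j : ZMod r) := by
    rw [cast_vecMul]
    funext k
    have h1 := hqrel ((T4).simpF hT k)
    rw [← zpow_natCast (ζ ^ val T4 c _) q, ← _root_.zpow_mul, val_perm hT hv2,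
      show ((T4).simpF hT k).val = (T4).simple k.val from rfl, val_simple hT, val_simple hT,
      zpow_eq_zpow_iff_modEq, hζ, ← ZMod.intCast_eq_intCast_iff] at h1
    rw [Pi.smul_apply, smul_eq_mul, h1]
    push_cast
    ring
  have hc0 : (fun j => (c j : ZMod r)) ≠ 0 := by
    obtain ⟨u, hu⟩ := hnz
    intro h0
    refine hu ?_
    rw [val, dotProduct, zpow_sum_eq]
    refine Finset.prod_eq_one fun j _ => ?_
    obtain ⟨k, hk⟩ := (ZMod.intCast_zmod_eq_zero_iff_dvd _ _).1 (congrFun h0 j)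
    rw [hk, mul_assoc, _root_.zpow_mul, zpow_natCast, ← hζ, pow_orderOf_eq_one, _root_.one_zpow]
  have hirr : ∀ μ z : Fin (T4).rank → ℤ, z ≠ 0 → (∀ i : ℕ, μ ⬝ᵥ (N ^ i *ᵥ z) = 0) → μ = 0 := by
    rcases hq with hq | hq
    · exact eq_zero_of_orbit hN2 hMn (orderOf_pos _) hrn hq hc0 heig
    · intro μ z hz h
      refine (cyclotomic_of_eigen M (by norm_num) (by decide +kernel) hMn (orderOf_pos _) hrn hq hc0
        heig).2 μ z hz fun i => ?_
      have h1 := h (2 * i)
      rw [pow_mul, pow_two N, hN2, smul_pow, Matrix.smul_mulVec, dotProduct_smul, nsmul_eq_mul] at h1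
      exact (mul_eq_zero.1 h1).resolve_left (by positivity)
  have hker : ∀ u, ζ ^ val T4 c u.val = 1 → ζ ^ val T4 c (v u).val = 1 := fun u hu => by
    rw [hvrel, hu, one_pow]
  have hreg := regular_of_orbit hT hζ hW c hker hnz hNi hirr
  have hreg0 : ∀ u : Fin (T4).n, tCh T4 f0 u.val ≠ 1 := fun u => by rw [hval]; exact hreg u
  -- the centraliser is the torus
  set z := x * mapGL T4 ι a * x⁻¹ with hz
  have hzG : z ∈ (T4).datum.group L :=
    mul_mem (mul_mem hxG (map_group ι hT ⟨a, ha.1, rfl⟩)) (inv_mem hxG)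
  have hzc : torusHom T4 L f0 * z = z * torusHom T4 L f0 := by
    have e : mapGL T4 ι s * mapGL T4 ι a = mapGL T4 ι a * mapGL T4 ι s := by
      rw [← map_mul, ← map_mul, hcomm]
    rw [hf0, hz]
    calc _ = x * (mapGL T4 ι s * mapGL T4 ι a) * x⁻¹ := by group
      _ = x * (mapGL T4 ι a * mapGL T4 ι s) * x⁻¹ := by rw [e]
      _ = _ := by group
  obtain ⟨u1, hu1, n, hnN, w', hw', u, hu, hnm, hze, hc1, hc2, hrel'⟩ := decompose hT hC hzG hzc
  rw [unip_trivial hT hC hreg0 hu1 hc1, unip_trivial hT hC hreg0 hu hc2, one_mul, mul_one] at hze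
  have hw1 : w' = 1 := stab_trivial hT hζ hW c hreg hw' fun u => by rw [← hval, ← hval, hrel']
  subst hw1
  obtain ⟨f, hf⟩ : ∃ f, torusHom T4 L f = z := by
    rw [← MonoidHom.mem_range, torusHom_range hT, hze]
    exact mem_diag_of_mono_one hT hnN hnm
  have hf2 : f ^ 2 = 1 := hinj (by
    rw [map_pow, hf, hz, _root_.conj_pow, ← map_pow, ha2, map_one, map_one, mul_one, mul_inv_cancel])
  have hf1 : f = 1 := funext fun i => Units.ext (by
    have h1 : (f i : L) ^ 2 = 1 := by rw [← Units.val_pow_eq_pow_val]; exact congrArg Units.val (congrFun hf2 i)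
    have h2 : ((f i : L) - 1) ^ 2 = 0 := by rw [sub_pow_char, one_pow, h1, sub_self]
    rw [Pi.one_apply, Units.val_one, ← sub_eq_zero]
    exact pow_eq_zero_iff two_ne_zero |>.1 h2)
  rw [hf1, map_one, hz, eq_comm, conj_eq_one_iff] at hf
  exact mapGL_inj ι (by rw [hf, map_one])

end CfsgLib.Chevalley.ReeFourTorus
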